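import Cfsg.Agent.Lib.Recog.SporBound.Sound
import Cfsg.Agent.Lib.Recog.SporBound.HeTop.Tree0
import Cfsg.Agent.Lib.Recog.SporBound.HeTop.Tree1
import Cfsg.Agent.Lib.Recog.SporBound.HeTop.Tree2
import Cfsg.Agent.Lib.Recog.SporBound.HeTop.Tree3
import Cfsg.Agent.Lib.Recog.SporBound.HeTop.Tree4
import Cfsg.Agent.Lib.Recog.SporBound.HeTop.Tree5
import Cfsg.Agent.Lib.Recog.SporBound.HeTop.Tree6
import Cfsg.Agent.Lib.Recog.SporBound.HeTop.Tree7
import Cfsg.Agent.Lib.Recog.SporBound.HeTop.Tree8
import Cfsg.Agent.Lib.Recog.SporBound.HeTop.Tree9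
import Cfsg.Agent.Lib.Recog.SporBound.HeTop.Tree10
import Cfsg.Agent.Lib.Recog.SporBound.HeTop.Tree11
import Cfsg.Agent.Lib.Recog.SporBound.HeTop.Tree12
import Cfsg.Agent.Lib.Recog.SporBound.HeTop.Tree13
import Cfsg.Agent.Lib.Recog.SporBound.HeTop.Tree14
import Cfsg.Agent.Lib.Recog.SporBound.HeTop.Tree15
import Cfsg.Agent.Lib.Recog.SporBound.HeTop.Tree16
import Cfsg.Agent.Lib.Recog.SporBound.HeTop.Tree17
import Cfsg.Agent.Lib.Recog.SporBound.HeTop.Tree18
import Cfsg.Agent.Lib.Recog.SporBound.HeTop.Tree19

set_option autoImplicit false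
set_option maxRecDepth 20000

/-! Generated closure certificate: He over C(a) (owner: lead). -/

namespace CfsgLib.Recog.SporBound.HeTop
open CfsgLib.Recog.SporBound

noncomputable def factTree : Q (ℕ) := (.node (.node (.node ft11 ft23 ft35 ft47) (.node ft59 ft71 ft83 ft95) (.node ft107 ft119 ft131 ft142) (.node ft154 ft166 ft178 ft189)) (.node (.node ft201 ft213 ft225 ft237) (.node ft249 ft261 ft273 ft285) (.node ft297 ft309 ft321 ft332) (.node ft344 ft356 ft368 ft379)) (.node (.node ft391 ft403 ft415 ft427) (.node ft439 ft451 ft463 ft475) (.node ft487 ft499 ft511 ft522) (.node ft534 ft546 ft558 ft569)) (.node (.node ft581 ft593 ft605 ft617) (.node ft629 ft641 ft653 ft664) (.node ft676 ft688 ft700 ft711) (.node ft723 ft735 ft747 ft758)))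
noncomputable def nodeTree : Q (ℕ) := (.node (.node ct13 ct26 ct39 ct52) (.node ct66 ct79 ct92 ct105) (.node ct119 ct132 ct145 ct158) (.node ct172 ct185 ct198 ct211))
noncomputable def stepTree : Q (List ℕ) := (.node (.node (.node st16 st33 st50 st66) (.node st83 st100 st116 st132) (.node st149 st166 st182 st198) (.node st215 st232 st248 st264)) (.node (.node st281 st298 st315 st331) (.node st348 st365 st381 st397) (.node st414 st431 st447 st463) (.node st480 st497 st513 st529)) (.node (.node st546 st563 st580 st596) (.node st613 st630 st646 st662) (.node st679 st696 st712 st728) (.node st745 st762 st778 st794)) (.node (.node st811 st828 st845 st861) (.node st878 st895 st911 st927) (.node st944 st961 st977 st993) (.node st1010 st1027 st1043 st1059)))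
noncomputable def finalTree : Q (List ℕ) := (.node (.node (.node (.node et11 et23 et35 et46) (.node et58 et70 et82 et93) (.node et105 et117 et129 et140) (.node et152 et164 et175 et186)) (.node (.node et198 et210 et222 et233) (.node et245 et257 et269 et280) (.node et292 et304 et316 et327) (.node et339 et351 et362 et373)) (.node (.node et385 et397 et409 et420) (.node et432 et444 et456 et467) (.node et479 et491 et503 et514) (.node et526 et538 et549 et560)) (.node (.node et572 et584 et596 et607) (.node et619 et631 et643 et654) (.node et666 et678 et690 et701) (.node et713 et725 et736 et747))) (.node (.node (.node et759 et771 et783 et794) (.node et806 et818 et830 et841) (.node et853 et865 et877 et888) (.node et900 et912 et923 et934)) (.node (.node et946 et958 et970 et981) (.node et993 et1005 et1017 et1028) (.node et1040 et1052 et1064 et1075) (.node et1087 et1099 et1110 et1121)) (.node (.node et1133 et1145 et1157 et1168) (.node et1180 et1192 et1204 et1215) (.node et1227 et1239 et1251 et1262) (.node et1274 et1286 et1297 et1308))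 (.node (.node et1320 et1332 et1344 et1355) (.node et1367 et1379 et1391 et1402) (.node et1414 et1426 et1438 et1449) (.node et1461 et1473 et1484 et1495))) (.node (.node (.node et1507 et1519 et1531 et1542) (.node et1554 et1566 et1578 et1589) (.node et1601 et1613 et1625 et1636) (.node et1648 et1660 et1671 et1682)) (.node (.node et1694 et1706 et1718 et1729) (.node et1741 et1753 et1765 et1776) (.node et1788 et1800 et1812 et1823) (.node et1835 et1847 et1858 et1869)) (.node (.node et1881 et1893 et1905 et1916) (.node et1928 et1940 et1952 et1963) (.node et1975 et1987 et1999 et2010) (.node et2022 et2034 et2045 et2056)) (.node (.node et2068 et2080 et2092 et2103) (.node et2115 et2127 et2139 et2150) (.node et2162 et2174 et2185 et2196) (.node et2208 et2220 et2231 et2242))) (.node (.node (.node et2254 et2266 et2278 et2289) (.node et2301 et2313 et2325 et2336) (.node et2348 et2360 et2372 et2383) (.node et2395 et2407 et2418 et2429)) (.node (.node et2441 et2453 et2465 et2476) (.node et2488 et2500 et2512 et2523) (.node et2535 et2547 et2559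 et2570) (.node et2582 et2594 et2605 et2616)) (.node (.node et2628 et2640 et2652 et2663) (.node et2675 et2687 et2699 et2710) (.node et2722 et2734 et2746 et2757) (.node et2769 et2781 et2792 et2803)) (.node (.node et2815 et2827 et2839 et2850) (.node et2862 et2874 et2886 et2897) (.node et2909 et2921 et2932 et2943) (.node et2955 et2967 et2978 et2989))))

/-- The certificate. -/
noncomputable def cert : Cert where
  n := 24990
  nd := 25216
  nf := 88923
  kl := [0, 1, 2, 3, 4, 5, 6]
  facts := factTree
  cn := nodeTree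
  steps := stepTree
  finals := finalTree
  rels := [[0, 0], [1, 1], [2, 2], [3, 3], [4, 4], [5, 5], [6, 6], [0, 1, 0, 1, 0, 1, 0, 1], [0, 2, 0, 2], [0, 3, 0, 3], [0, 4, 0, 4], [0, 5, 0, 5], [0, 6, 0, 6], [1, 2, 1, 2, 1, 2], [1, 3, 1, 3], [1, 4, 1, 4], [1, 5, 1, 5], [1, 6, 1, 6], [2, 3, 2, 3, 2, 3, 2, 3, 2, 3, 2, 3, 2, 3, 2, 3, 2, 3, 2, 3], [2, 4, 2, 4], [2, 5, 2, 5], [2, 6, 2, 6], [3, 4, 3, 4, 3, 4], [3, 5, 3, 5, 3, 5], [3, 6, 3, 6, 3, 6], [4, 5, 4, 5], [4, 6, 4, 6], [5, 6, 5, 6, 5, 6, 5, 6], [4, 6, 5, 6, 5], [4, 2, 1, 0, 2, 1, 0, 2, 1, 0], [0, 3, 2, 3, 2, 3, 2, 3, 2, 3, 2], [2, 3, 5, 6, 2, 3, 5, 6, 2, 3, 5, 6, 2, 3, 5, 6]]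
  subs := [[0], [2], [3], [4], [5], [6], [0, 1, 0, 1]]

/-- Chains of the traced words. -/
noncomputable def closers : List ℕ := []

end CfsgLib.Recog.SporBound.HeTop
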