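import Cfsg.Agent.Lib.Recog.SporBound.HeTop.Data

set_option autoImplicit false
set_option maxRecDepth 20000

/-! Checks of the certificate, part 2. -/

namespace CfsgLib.Recog.SporBound.HeTop
open CfsgLib.Recog.SporBound
open CfsgLib.ThreeTrans.CosetIndex (forallFrom)

theorem defs8 : forallFrom cert.defOK 12000 1500 = true := by decide +kernel

theorem defs9 : forallFrom cert.defOK 13500 1500 = true := by decide +kernel

theorem defs10 : forallFrom cert.defOK 15000 1500 = true := by decide +kernel

theorem defs11 : forallFrom cert.defOK 16500 1500 = true := by decide +kernel

end CfsgLib.Recog.SporBound.HeTop
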